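import Groth.Statements.S5112
import Groth.Agent.RefDiv.Inv
import Groth.Agent.S16087
import Groth.Agent.S16491
import Groth.Agent.S2831
import Groth.Agent.ParaFLib.UfdApply

/-!
# Local principality of cycles across parafactorial points
-/

set_option autoImplicit false
set_option linter.style.haveILetI false
set_option backward.isDefEq.respectTransparency false
noncomputable section

universe u

open CategoryTheory CategoryTheory.Limits AlgebraicGeometry TopologicalSpace Opposite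
open Groth.Agent.WeakAssLib (mgerm mgerm_smul mgerm_res)
open Groth.Agent.RefStalk Groth.Agent.RefDiv
open TMul (IsGen)

namespace Groth.Agent.DivParaf

variable {X : Scheme.{u}} [IsIntegral X] [IsLocallyNoetherian X] (hn : Pi1.IsNormalScheme X) {F : X.Modules}

/-- The stalk at `y` has one generator. -/
def Good (F : X.Modules) (y : X) : Prop :=
  ∃ m : F.presheaf.stalk y, Submodule.span (X.presheaf.stalk y) {m} = ⊤

omit [IsLocallyNoetherian X] in
theorem exists_goodOpen (hl : Lat F) : ∃ U : X.Opens, ∀ y, y ∈ U ↔ Good F y := by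
  refine ⟨⟨{y | Good F y}, isOpen_iff_forall_mem_open.2 fun x ⟨m, hm⟩ => ?_⟩, fun y => Iff.rfl⟩
  obtain ⟨W, hx, e, -, he⟩ := hl.exists_isGen hm
  exact ⟨W, fun y hy => ⟨_, span_eq_top_of_surjective (bijective_germ_of_isGen he hy).2⟩, W.2, hx⟩

include hn in
theorem good_of_dim_le_one (hl : Lat F) (y : X) (hy : Order.coheight y ≤ 1) : Good F y := by
  rcases lt_or_eq_of_le hy with h | h
  · have h0 : Order.coheight y = 0 := Order.lt_one_iff.1 h
    obtain ⟨W, hW, e, he⟩ := hl.exists_isGen_generic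
    refine ⟨_, span_eq_top_of_surjective (bijective_germ_of_isGen he (y := y) ?_).2⟩
    have hmax : IsMax y := Order.coheight_eq_zero.1 h0
    exact (hmax (genericPoint_specializes y)).mem_open W.2 hW
  · exact hl.exists_span hn h

include hn in
/-- A cycle principal at `y` gives a generator at `y`. -/
theorem good_of_principal (hF : RefHull.IsRef1 F) {s : St F} (hs : s ≠ 0) (y : X) {f : X.functionField} (hf : f ≠ 0)
    (h : ∀ x : X, Order.coheight x = 1 → x ⤳ y → dv F x s = Scheme.ord f x) : Good F y := by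
  have hl := lat_of_isRef1 hF
  have hr := (isReflexive_iff hF.1).1 hF.2.1
  obtain ⟨w, hw⟩ := RefStalk.mem_range_msp hn hF.1 hr (f⁻¹ • s) y fun x hxy hx => by
    obtain ⟨m, hm⟩ := hl.exists_span hn hx
    obtain ⟨φ, hφ, hφs⟩ := hl.exists_coeff hm hs
    have hd := h x hx hxy
    rw [dv, hl.secOrdAt_mk hx hm hφ hφs] at hd
    obtain ⟨r, hr⟩ := (RefDiv.ord_nonneg_iff hn hx (mul_ne_zero (inv_ne_zero hf) hφ)).1 (by
      rw [Scheme.ord_mul (inv_ne_zero hf) hφ, RefDiv.ord_inv hf]; omega)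
    refine ⟨r • m, ?_⟩
    rw [msp_smul, show sp x r = f⁻¹ * φ from hr, mul_smul, hφs]
  refine ⟨w, span_eq_top_of_surjective fun u => ?_⟩
  have hw0 : msp F (toGen y) w ≠ 0 := by rw [hw]; exact smul_ne_zero' hs (inv_ne_zero hf)
  obtain ⟨c, hc⟩ := hl.exists_smul hw0 (msp F (toGen y) u)
  rcases eq_or_ne c 0 with rfl | hc0
  · refine ⟨0, hl.injective_msp y ?_⟩
    rw [zero_smul] at hc
    show msp F (toGen y) ((0 : X.presheaf.stalk y) • w) = _
    rw [zero_smul, map_zero, ← hc]
  obtain ⟨a, ha⟩ := CDivNormal.mem_range_of_codim_one hn c y fun x hxy hx => by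
    obtain ⟨m, hm⟩ := hl.exists_span hn hx
    obtain ⟨φ, hφ, hφs⟩ := hl.exists_coeff hm hs
    have hd := h x hx hxy
    rw [dv, hl.secOrdAt_mk hx hm hφ hφs] at hd
    obtain ⟨b, hb⟩ := exists_smul_of_span hm (msp F hxy u)
    have hb' : sp x b • msp F (toGen x) m = msp F (toGen y) u := by
      refine ((msp_smul F (toGen x) b m).symm.trans (congrArg (msp F (toGen x)) hb)).trans ?_
      exact msp_msp F (toGen x) hxy u
    have heq : sp x b = c * (f⁻¹ * φ) := smul_cancel (hl.msp_ne_zero hm) (by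
      rw [hb', ← hc, hw, ← hφs, smul_smul, smul_smul, mul_assoc])
    refine (RefDiv.ord_nonneg_iff hn hx hc0).1 ?_
    have hb0 : sp x b ≠ 0 := by rw [heq]; exact mul_ne_zero hc0 (mul_ne_zero (inv_ne_zero hf) hφ)
    have hbn : 0 ≤ Scheme.ord (sp x b) x := (RefDiv.ord_nonneg_iff hn hx hb0).2 ⟨b, rfl⟩
    rw [heq, Scheme.ord_mul hc0 (mul_ne_zero (inv_ne_zero hf) hφ), Scheme.ord_mul (inv_ne_zero hf) hφ,
      RefDiv.ord_inv hf] at hbn
    omega
  refine ⟨a, hl.injective_msp y ?_⟩
  show msp F (toGen y) (a • w) = _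
  rw [msp_smul]
  exact (congrArg (· • msp F (toGen y) w) ha).trans hc

omit [IsLocallyNoetherian X] in
theorem isInvertible_restrict (hl : Lat F) (U : X.Opens) (hU : ∀ y ∈ U, Good F y) :
    PicF.IsInvertible (F.restrict U.ι) :=
  InvGen.isInvertible fun y => by
    obtain ⟨m, hm⟩ := hU y.1 y.2
    obtain ⟨W, hy, e, -, he⟩ := hl.exists_isGen hm
    exact ⟨_, _, hy, ParaFLib.isGen_restrict U.ι he⟩

include hn in
theorem exists_principal (S : Set X)
    (hpar : ∀ x : X, closure {x} ∩ S = ∅ → (2 : WithBot ℕ∞) ≤ ringKrullDim (X.presheaf.stalk x) →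
        ParaF.IsParafactorialLocalRing (X.presheaf.stalk x))
    (hF : RefHull.IsRef1 F) (s : St F) (hs : s ≠ 0)
    (hS : ∀ y ∈ S, ∃ f : X.functionField, f ≠ 0 ∧
      ∀ x' : X, Order.coheight x' = 1 → x' ⤳ y → dv F x' s = Scheme.ord f x') (x : X) :
    ∃ f : X.functionField, f ≠ 0 ∧ ∀ x' : X, Order.coheight x' = 1 → x' ⤳ x → dv F x' s = Scheme.ord f x' := by
  have hl := lat_of_isRef1 hF
  obtain ⟨U, hU⟩ := exists_goodOpen hl
  let Y : Closeds X := ⟨(U : Set X)ᶜ, U.2.isClosed_compl⟩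
  have hYc : Y.compl = U := Opens.ext (compl_compl _)
  have hpair : ParaF.IsParafactorialPair X Y := (Groth.Agent.S2831.result X Y).2 fun y hy => by
    refine hpar y (Set.eq_empty_of_forall_notMem fun t ⟨ht, htS⟩ => hy ?_) ?_
    · obtain ⟨f, hf, hft⟩ := hS t htS
      exact (specializes_iff_mem_closure.2 ht).mem_open U.2 ((hU t).2 (good_of_principal hn hF hs t hf hft))
    · rw [ringKrullDim_stalk_eq_coheight]
      have h2 : ¬ Order.coheight y ≤ 1 := fun h => hy ((hU y).2 (good_of_dim_le_one hn hl y h))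
      exact WithBot.coe_le_coe.2 (Order.add_one_le_of_lt (not_le.1 h2))
  have hinv := isInvertible_restrict hl Y.compl fun y hy => (hU y).1 (hYc ▸ hy)
  obtain ⟨D, σ, hxD, hσ⟩ := ParaFLib.exists_gen_of_pair Y hpair _ hinv x
  have he := S16491.isGen_of_restrict hσ
  let A : X.Opens := (Scheme.Opens.ι Y.compl) ''ᵁ ((Scheme.Opens.ι Y.compl) ⁻¹ᵁ D)
  have hA : ∀ z, z ∈ Y.compl → z ∈ D → z ∈ A := fun z hz hzD => ⟨⟨z, hz⟩, hzD, rfl⟩
  have hgen : genericPoint X ∈ A := hA _ (by
    rw [hYc]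
    exact (hU _).2 (good_of_dim_le_one hn hl _ (by rw [RefDiv.coheight_genericPoint]; exact zero_le_one)))
    ((genericPoint_specializes x).mem_open D.2 hxD)
  obtain ⟨φ, hφ⟩ := (bijective_germ_of_isGen he hgen).2 s
  refine ⟨φ, fun h0 => hs (by rw [← hφ, h0]; exact zero_smul _ _), fun x' hx' hspec => ?_⟩
  have hx'A : x' ∈ A := hA x' (by rw [hYc]; exact (hU x').2 (good_of_dim_le_one hn hl x' hx'.le))
    (hspec.mem_open D.2 hxD)
  exact hl.secOrdAt_mk hx' (span_eq_top_of_surjective (bijective_germ_of_isGen he hx'A).2)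
    (fun h0 => hs (by rw [← hφ, h0]; exact zero_smul _ _))
    ((congrArg (φ • ·) (RefStalk.msp_germ F _ hx'A _)).trans hφ)

end Groth.Agent.DivParaf
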