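import Groth.Agent.DivParaf.Basic
import Groth.Agent.S5103
import Groth.Agent.S5105
import Groth.Agent.S0234

/-!
# Principal codimension one cycles, factoriality and Picard groups of open subsets
-/

set_option autoImplicit false
set_option linter.style.haveILetI false
set_option backward.isDefEq.respectTransparency false
noncomputable section

universe u

open CategoryTheory CategoryTheory.Limits AlgebraicGeometry TopologicalSpace Opposite
open Groth.Agent.WeakAssLib (mgerm mgerm_smul mgerm_res)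
open Groth.Agent.QC (resO)
open Groth.Agent.RefStalk Groth.Agent.RefDiv
open TMul (IsGen)

namespace Groth.Agent.DivParaf

variable {X : Scheme.{u}} [IsIntegral X]

/-- Each prime cycle of codimension one is principal. -/
def AllPrincipal (X : Scheme.{u}) [IsIntegral X] [IsLocallyNoetherian X] : Prop :=
  ∀ x₀ : X, Order.coheight x₀ = 1 → ∃ f : X.functionField, f ≠ 0 ∧
    Scheme.ord f x₀ = 1 ∧ ∀ x : X, x ≠ x₀ → Order.coheight x = 1 → Scheme.ord f x = 0

/-- Each prime cycle of codimension one is cut out by a global function. -/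
def CutOut (X : Scheme.{u}) : Prop :=
  ∀ ζ : X, Order.coheight ζ = 1 → ∃ g : Γ(X, ⊤),
    (∀ (x : X) (h : ζ ⤳ x), CDivNormal.genPrime h = Ideal.span {X.presheaf.germ ⊤ x trivial g}) ∧
    ∀ x : X, ¬ ζ ⤳ x → IsUnit (X.presheaf.germ ⊤ x trivial g)

variable [IsLocallyNoetherian X]

theorem eq_of_specializes {ζ x : X} (hζ : Order.coheight ζ = 1) (hx : Order.coheight x = 1) (h : ζ ⤳ x) : ζ = x := by
  rcases DivOrd.eq_or_eq_genericPoint hx h with e | e
  · exact e
  · rw [e, RefDiv.coheight_genericPoint] at hζ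
    exact absurd hζ zero_ne_one

theorem sp_germ_top (y : X) (g : Γ(X, ⊤)) :
    sp y (X.presheaf.germ ⊤ y trivial g) = X.presheaf.germ ⊤ (genericPoint X) trivial g :=
  X.presheaf.germ_stalkSpecializes_apply _ _ g

theorem ufd_of_cutOut (h : CutOut X) (y : X) : UniqueFactorizationMonoid (X.presheaf.stalk y) := by
  haveI : IsDomain (X.presheaf.stalk y) := inferInstance
  rw [UniqueFactorizationMonoid.iff_exists_prime_mem_of_isPrime]
  intro P hP hPp
  obtain ⟨w, hw, rfl⟩ := CDivNormal.exists_genPrime_eq y P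
  have hne : ¬ IsMax w := fun hmax => hP ((Submodule.eq_bot_iff _).2 fun a ha => by
    have e : genericPoint X = w := (Specializes.antisymm (hmax (genericPoint_specializes w) : w ⤳ genericPoint X) (genericPoint_specializes w)).eq.symm
    subst e
    by_contra ha0
    exact ha (isUnit_iff_ne_zero.2 (sp_ne_zero ha0) : IsUnit (sp y a)))
  have hfin : Order.coheight w < ⊤ := by
    have h1 : ringKrullDim (X.presheaf.stalk w) < ⊤ := ringKrullDim_lt_top
    rw [ringKrullDim_stalk_eq_coheight] at h1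
    exact WithBot.coe_lt_coe.1 h1
  obtain ⟨ζ, hwζ, hζ⟩ : ∃ ζ : X, ζ ⤳ w ∧ Order.coheight ζ = 1 := by
    rcases (ENat.one_le_iff_ne_zero.2 fun h0 => hne (Order.coheight_eq_zero.1 h0)).lt_or_eq with h1 | h1
    · obtain ⟨z, hz, hz1⟩ := (Order.coe_lt_coheight_iff (n := 1) hfin).1 h1
      exact ⟨z, hz.le, hz1⟩
    · exact ⟨w, specializes_rfl, h1.symm⟩
  obtain ⟨g, hg, -⟩ := h ζ hζ
  have hspan := hg y (hwζ.trans hw)
  have hle : Ideal.span {X.presheaf.germ ⊤ y trivial g} ≤ CDivNormal.genPrime hw :=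
    hspan ▸ CDivNormal.genPrime_mono hwζ hw
  have hg0 : X.presheaf.germ ⊤ y trivial g ≠ 0 := by
    intro h0
    have hbot : CDivNormal.genPrime (hwζ.trans hw) = ⊥ := by rw [hspan, h0, Ideal.span_singleton_eq_bot]
    have hgenle : ζ ⤳ genericPoint X :=
      CDivNormal.specializes_of_le (hwζ.trans hw) (genericPoint_specializes y) (by rw [hbot]; exact bot_le)
    have e : ζ = genericPoint X := (hgenle.antisymm (genericPoint_specializes ζ)).eq
    rw [e, RefDiv.coheight_genericPoint] at hζ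
    exact zero_ne_one hζ
  haveI : (Ideal.span {X.presheaf.germ ⊤ y trivial g}).IsPrime := hspan ▸ inferInstance
  exact ⟨_, hle (Ideal.mem_span_singleton_self _), (Ideal.span_singleton_prime hg0).1 this⟩

theorem normal_of_ufd (h : ∀ y : X, UniqueFactorizationMonoid (X.presheaf.stalk y)) : Pi1.IsNormalScheme X :=
  fun y => by
    haveI := h y
    exact ⟨inferInstance, inferInstance⟩

theorem allPrincipal_of_cutOut (h : CutOut X) : Pi1.IsNormalScheme X ∧ AllPrincipal X := by
  have hn := normal_of_ufd (ufd_of_cutOut h)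
  refine ⟨hn, fun ζ hζ => ?_⟩
  obtain ⟨g, hg, hu⟩ := h ζ hζ
  let a : ∀ y : X, X.presheaf.stalk y := fun y => X.presheaf.germ ⊤ y trivial g
  let f : X.functionField := X.presheaf.germ ⊤ (genericPoint X) trivial g
  have hf : f ≠ 0 := fun h0 => not_isUnit_zero (M₀ := X.functionField) (h0 ▸ hu (genericPoint X) (fun hs => by
    have e : ζ = genericPoint X := (hs.antisymm (genericPoint_specializes ζ)).eq
    rw [e, RefDiv.coheight_genericPoint] at hζ
    exact zero_ne_one hζ))
  refine ⟨f, hf, ?_, fun x hne hx => ?_⟩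
  · haveI := CDivNormal.isDVR hn ζ hζ
    have ha0 : a ζ ≠ 0 := fun e => hf (by rw [show f = sp ζ (a ζ) from (sp_germ_top ζ g).symm, e, map_zero])
    have hmem : a ζ ∈ CDivNormal.genPrime (specializes_rfl : ζ ⤳ ζ) := by
      rw [hg ζ specializes_rfl]; exact Ideal.mem_span_singleton_self _
    have h1 : Scheme.ord f ζ ≠ 0 := by
      rw [show f = sp ζ (a ζ) from (sp_germ_top ζ g).symm]
      exact fun h0 => (CDivNormal.ord_fn_eq_zero_iff hn specializes_rfl hζ ha0).1 h0 hmem
    have h2 : 0 ≤ Scheme.ord f ζ := (RefDiv.ord_nonneg_iff hn hζ hf).2 ⟨a ζ, sp_germ_top ζ g⟩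
    obtain ⟨φ, hφ, hφ1⟩ := RefDiv.exists_ord_eq hn hζ 1
    obtain ⟨r, rfl⟩ := (RefDiv.ord_nonneg_iff hn hζ hφ).1 (by omega)
    have hr : r ∈ CDivNormal.genPrime (specializes_rfl : ζ ⤳ ζ) := by
      refine (CDivNormal.mem_genPrime _ _).2 fun hru => ?_
      rw [show (X.presheaf.stalkSpecializes (specializes_rfl : ζ ⤳ ζ)).hom r = r by
        rw [TopCat.Presheaf.stalkSpecializes_refl]; rfl] at hru
      rw [RefDiv.ord_sp_isUnit hζ hru] at hφ1
      exact zero_ne_one hφ1
    rw [hg ζ specializes_rfl, Ideal.mem_span_singleton'] at hr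
    obtain ⟨c, rfl⟩ := hr
    have hc0 : c ≠ 0 := fun e => hφ (by rw [e, zero_mul, map_zero])
    have hc : 0 ≤ Scheme.ord (sp ζ c) ζ := (RefDiv.ord_nonneg_iff hn hζ (sp_ne_zero hc0)).2 ⟨c, rfl⟩
    rw [map_mul, show sp ζ (X.presheaf.germ ⊤ ζ trivial g) = f from sp_germ_top ζ g,
      Scheme.ord_mul (sp_ne_zero hc0) hf] at hφ1
    omega
  · rw [show f = sp x (a x) from (sp_germ_top x g).symm]
    exact RefDiv.ord_sp_isUnit hx (hu x fun hs => hne (eq_of_specializes hζ hx hs).symm)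

theorem exists_section (f : X.functionField) (h : ∀ y : X, ∃ r, sp y r = f) :
    ∃ g : Γ(X, ⊤), X.presheaf.germ ⊤ (genericPoint X) trivial g = f := by
  choose r hr using h
  have hr' := fun y => TopCat.Presheaf.exists_germ_eq X.presheaf (r y)
  choose W hyW s hs using hr'
  have hη : ∀ y, genericPoint X ∈ W y := fun y => (genericPoint_specializes y).mem_open (W y).2 (hyW y)
  have hgen : ∀ y, X.presheaf.germ (W y) (genericPoint X) (hη y) (s y) = f := fun y => by
    rw [← hr y, ← hs y]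
    exact (X.presheaf.germ_stalkSpecializes_apply (hyW y) _ (s y)).symm
  obtain ⟨g, hg, -⟩ := TopCat.Sheaf.existsUnique_gluing' X.sheaf W ⊤ (fun y => homOfLE le_top)
    (fun y _ => Opens.mem_iSup.2 ⟨y, hyW y⟩) s fun v w => by
      change resO X (inf_le_left : W v ⊓ W w ≤ W v) (s v) = resO X (inf_le_right : W v ⊓ W w ≤ W w) (s w)
      haveI : Nonempty (W v ⊓ W w : X.Opens) := ⟨⟨_, hη v, hη w⟩⟩
      refine germ_injective_of_isIntegral (U := W v ⊓ W w) X (genericPoint X) ⟨hη v, hη w⟩ ?_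
      exact ((X.presheaf.germ_res_apply _ _ _ _).trans (hgen v)).trans
        ((X.presheaf.germ_res_apply _ _ _ _).trans (hgen w)).symm
  refine ⟨g, ?_⟩
  let y₀ := genericPoint X
  rw [← hgen y₀, ← hg y₀]
  exact (X.presheaf.germ_res_apply _ _ _ _).symm

variable (hn : Pi1.IsNormalScheme X)
include hn

theorem cutOut_of_allPrincipal (h : AllPrincipal X) : CutOut X := by
  intro ζ hζ
  obtain ⟨f, hf, hf1, hf0⟩ := h ζ hζ
  have hord : ∀ x, Order.coheight x = 1 → 0 ≤ Scheme.ord f x := fun x hx => by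
    rcases eq_or_ne x ζ with rfl | hne
    · omega
    · rw [hf0 x hne hx]
  have hall : ∀ y, ∃ r, sp y r = f := fun y => CDivNormal.mem_range_of_codim_one hn f y fun x _ hx =>
    (RefDiv.ord_nonneg_iff hn hx hf).1 (hord x hx)
  obtain ⟨g, hg⟩ := exists_section f hall
  have hsp : ∀ y, sp y (X.presheaf.germ ⊤ y trivial g) = f := fun y => (sp_germ_top y g).trans hg
  refine ⟨g, fun x hx => ?_, fun x hx => ?_⟩
  · have hg0 : X.presheaf.germ ⊤ x trivial g ≠ 0 := fun e => hf (by rw [← hsp x, e, map_zero])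
    refine le_antisymm (fun b hb => ?_) ((Ideal.span_singleton_le_iff_mem _).2 ?_)
    · rcases eq_or_ne b 0 with rfl | hb0
      · exact Ideal.zero_mem _
      obtain ⟨c, hc⟩ := CDivNormal.mem_range_of_codim_one hn (sp x b / f) x fun x' hx'x hx' => by
        refine (RefDiv.ord_nonneg_iff hn hx' (div_ne_zero (sp_ne_zero hb0) hf)).1 ?_
        rw [div_eq_mul_inv, Scheme.ord_mul (sp_ne_zero hb0) (inv_ne_zero hf), RefDiv.ord_inv hf]
        have hb1 : 0 ≤ Scheme.ord (sp x b) x' := CDivNormal.ord_fn_nonneg hn hx'x hx' hb0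
        rcases eq_or_ne x' ζ with rfl | hne
        · have hb2 : Scheme.ord (sp x b) x' ≠ 0 := fun h0 =>
            (CDivNormal.ord_fn_eq_zero_iff hn hx'x hx' hb0).1 h0 hb
          omega
        · rw [hf0 x' hne hx']; omega
      refine Ideal.mem_span_singleton'.2 ⟨c, sp_injective x ?_⟩
      rw [map_mul, hsp x]
      exact (congrArg (· * f) hc).trans (div_mul_cancel₀ _ hf)
    · by_contra hm
      have h0 : Scheme.ord (sp x (X.presheaf.germ ⊤ x trivial g)) ζ = 0 :=
        (CDivNormal.ord_fn_eq_zero_iff hn hx hζ hg0).2 hm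
      rw [hsp x, hf1] at h0
      exact one_ne_zero h0
  · obtain ⟨c, hc⟩ := CDivNormal.mem_range_of_codim_one hn f⁻¹ x fun x' hx'x hx' => by
      refine (RefDiv.ord_nonneg_iff hn hx' (inv_ne_zero hf)).1 ?_
      have hne : x' ≠ ζ := fun e => hx (e ▸ hx'x)
      rw [RefDiv.ord_inv hf, hf0 x' hne hx']
      omega
    refine IsUnit.of_mul_eq_one c (sp_injective x ?_)
    rw [map_mul, hsp x, map_one, show sp x c = f⁻¹ from hc, mul_inv_cancel₀ hf]

open Classical in
theorem exists_ord_eq_cycle (h : AllPrincipal X) (Z : X → ℤ) (T : Finset X) :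
    ∃ f : X.functionField, f ≠ 0 ∧ ∀ x : X, Order.coheight x = 1 →
      Scheme.ord f x = if x ∈ T then Z x else 0 := by
  classical
  induction T using Finset.induction_on with
  | empty => exact ⟨1, one_ne_zero, fun x _ => by rw [RefDiv.ord_one, if_neg (Finset.notMem_empty x)]⟩
  | insert a T ha ih =>
    obtain ⟨f, hf, hfx⟩ := ih
    by_cases hac : Order.coheight a = 1
    · obtain ⟨φ, hφ, hφ1, hφ0⟩ := h a hac
      have hz : ∀ n : ℤ, ∀ x : X, Scheme.ord (φ ^ n) x = n * Scheme.ord φ x := fun n x => by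
        induction n with
        | zero => rw [zpow_zero, RefDiv.ord_one, zero_mul]
        | succ n ih => rw [zpow_add₀ hφ, zpow_one, Scheme.ord_mul (zpow_ne_zero _ hφ) hφ, ih]; ring
        | pred n ih =>
          rw [zpow_sub₀ hφ, zpow_one, div_eq_mul_inv, Scheme.ord_mul (zpow_ne_zero _ hφ) (inv_ne_zero hφ), ih,
            RefDiv.ord_inv hφ]
          ring
      refine ⟨f * φ ^ Z a, mul_ne_zero hf (zpow_ne_zero _ hφ), fun x hx => ?_⟩
      rw [Scheme.ord_mul hf (zpow_ne_zero _ hφ), hfx x hx, hz]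
      rcases eq_or_ne x a with rfl | hne
      · rw [hφ1, if_neg ha, if_pos (Finset.mem_insert_self _ _)]; ring
      · rw [hφ0 x hne hx, mul_zero, add_zero]
        simp [Finset.mem_insert, hne]
    · refine ⟨f, hf, fun x hx => ?_⟩
      have hne : x ≠ a := fun e => hac (e ▸ hx)
      rw [hfx x hx]
      simp [Finset.mem_insert, hne]

theorem exists_ord_eq_of_finSupp [CompactSpace X] (h : AllPrincipal X) (Z : X → ℤ)
    (hfin : ∀ x : X, ∃ W : X.Opens, x ∈ W ∧ {z : X | z ∈ W ∧ Z z ≠ 0}.Finite) :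
    ∃ f : X.functionField, f ≠ 0 ∧ ∀ x : X, Order.coheight x = 1 → Scheme.ord f x = Z x := by
  classical
  choose W hW hWf using hfin
  obtain ⟨t, ht⟩ := isCompact_univ.elim_finite_subcover (fun x => (W x : Set X)) (fun x => (W x).2)
    fun x _ => Set.mem_iUnion.2 ⟨x, hW x⟩
  obtain ⟨f, hf, hfx⟩ := exists_ord_eq_cycle hn h Z (t.biUnion fun x => (hWf x).toFinset)
  refine ⟨f, hf, fun x hx => ?_⟩
  rw [hfx x hx]
  split_ifs with hmem
  · rfl
  · by_contra hne
    obtain ⟨y, hy, hxy⟩ := Set.mem_iUnion₂.1 (ht (Set.mem_univ x))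
    exact hmem (Finset.mem_biUnion.2 ⟨y, hy, (hWf y).mem_toFinset.2 ⟨hxy, fun e => hne e.symm⟩⟩)

theorem ufd_picTrivial_of_allPrincipal [CompactSpace X] (h : AllPrincipal X) :
    (∀ x : X, UniqueFactorizationMonoid (X.presheaf.stalk x)) ∧
      ∀ L : X.Modules, PicF.IsInvertible L → Nonempty (L ≅ Coh.structureModule X) := by
  refine ⟨fun x => ufd_of_cutOut (cutOut_of_allPrincipal hn h) x, fun L hL => ?_⟩
  have lL := lat_of_isInvertible hL
  obtain ⟨v, hv, -⟩ := lL.gen
  have hs : (Submodule.Quotient.mk v : Cyc.secFibre L (genericPoint X)) ≠ 0 := fun e =>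
    hv (Lat.mk_injective L (e.trans (Submodule.Quotient.mk_zero _).symm))
  obtain ⟨D, hD0, hD⟩ := (Groth.Agent.S16087.result X hn).1 L (isRef1_of_isInvertible hL) _ hs
  obtain ⟨f, hf, hfx⟩ := exists_ord_eq_of_finSupp hn h D fun x => by
    obtain ⟨t, ht, htf⟩ := D.supportLocallyFiniteWithinDomain x (Set.mem_univ x)
    obtain ⟨W, hWt, hW, hxW⟩ := mem_nhds_iff.1 ht
    exact ⟨⟨W, hW⟩, hxW, htf.subset fun z hz => ⟨hWt hz.1, hz.2⟩⟩
  exact Groth.Agent.S5103.result X hn L hL _ hs f hf fun x hx => (hD x hx).symm.trans (hfx x hx).symm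

theorem allPrincipal_of_picOpens
    (h : ∀ (U : X.Opens) (L : (U : Scheme.{u}).Modules), PicF.IsInvertible L →
      Nonempty (L ≅ Coh.structureModule (U : Scheme.{u}))) : AllPrincipal X := by
  classical
  intro x₀ hx₀
  let D : AlgebraicCycle X ℤ := ⟨fun z => if z = x₀ then 1 else 0, fun _ _ => trivial, fun z _ =>
    ⟨Set.univ, Filter.univ_mem, (Set.finite_singleton x₀).subset fun y hy => by
      by_contra hne
      exact hy.2 (if_neg hne)⟩⟩
  obtain ⟨F, hF, s, hs, hD⟩ := (Groth.Agent.S16087.result X hn).2 D fun x hx => by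
    show (if x = x₀ then (1 : ℤ) else 0) = 0
    exact if_neg fun (e : x = x₀) => hx (e ▸ hx₀)
  obtain ⟨v, rfl⟩ := Submodule.Quotient.mk_surjective _ s
  have hv : v ≠ 0 := fun e => hs (by rw [e]; rfl)
  have hl := lat_of_isRef1 hF
  obtain ⟨U, hU⟩ := exists_goodOpen hl
  obtain ⟨φ⟩ := h U _ (isInvertible_restrict hl U fun y hy => (hU y).1 hy)
  have he := S16491.isGen_of_restrict (U := U) (A := ⊤)
    (ParaFLib.isGen_iso φ.symm (U := (⊤ : (U : Scheme.{u}).Opens)) (ParaFLib.isGen_one (U : Scheme.{u})))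
  have hA : ∀ z, Order.coheight z ≤ 1 → z ∈ U.ι ''ᵁ (⊤ : (U : Scheme.{u}).Opens) := fun z hz =>
    ⟨⟨z, (hU z).2 (good_of_dim_le_one hn hl z hz)⟩, trivial, rfl⟩
  have hgen := hA (genericPoint X) (by rw [RefDiv.coheight_genericPoint]; exact zero_le_one)
  obtain ⟨c, hc⟩ := (bijective_germ_of_isGen he hgen).2 v
  have hc0 : c ≠ 0 := fun h0 => hv (by rw [← hc, h0]; exact zero_smul _ _)
  have hord : ∀ x : X, Order.coheight x = 1 → Scheme.ord c x = if x = x₀ then 1 else 0 := fun x hx =>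
    ((hD x hx).trans (hl.secOrdAt_mk hx (span_eq_top_of_surjective (bijective_germ_of_isGen he (hA x hx.le)).2) hc0
      ((congrArg (c • ·) (RefStalk.msp_germ F _ (hA x hx.le) _)).trans hc))).symm
  exact ⟨c, hc0, (hord x₀ hx₀).trans (if_pos rfl), fun x hne hx => (hord x hx).trans (if_neg hne)⟩

omit hn in
theorem picOpens_of_ufd (hU : ∀ x : X, UniqueFactorizationMonoid (X.presheaf.stalk x))
    (hP : ∀ L : X.Modules, PicF.IsInvertible L → Nonempty (L ≅ Coh.structureModule X))
    (U : X.Opens) (L : (U : Scheme.{u}).Modules) (hL : PicF.IsInvertible L) :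
    Nonempty (L ≅ Coh.structureModule (U : Scheme.{u})) := by
  obtain ⟨L', hL', ⟨e⟩⟩ := Groth.Agent.S0234.result X U L hL fun x _ => hU x
  obtain ⟨φ⟩ := hP L' hL'
  obtain ⟨u⟩ := ParaFLib.nonempty_restrictUnitIso U.ι
  exact ⟨e.symm ≪≫ (Scheme.Modules.restrictFunctor U.ι).mapIso φ ≪≫ u⟩

end Groth.Agent.DivParaf
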